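/-
`n` polynomials in `n` variables over a field define a flat map at an isolated zero.
-/
import Groth.Agent.RegLoc.Miracle
import Groth.Agent.CycLib.DimFormula
import Groth.Agent.Depth.CM
import Mathlib.RingTheory.RegularLocalRing.Polynomial
import Mathlib.RingTheory.Jacobson.Ring
import Mathlib.RingTheory.RingHom.Flat

open MvPolynomial IsLocalRing

universe u

namespace Groth.Agent.SquarePres

variable {k : Type u} [Field k] {n : ℕ}

theorem ringKrullDim_localization_maximal (q : Ideal (MvPolynomial (Fin n) k)) [q.IsMaximal] :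
    ringKrullDim (Localization.AtPrime q) = n := by
  let := Ideal.Quotient.field q
  have hfin : Module.Finite k (MvPolynomial (Fin n) k ⧸ q) :=
    finite_of_finite_type_of_isJacobsonRing k _
  have hl : q.LiesOver (⊥ : Ideal k) :=
    ⟨((Ideal.eq_bot_or_top (q.under k)).resolve_right (Ideal.IsPrime.ne_top inferInstance)).symm⟩
  have : Module.Finite (k ⧸ (⊥ : Ideal k)) (MvPolynomial (Fin n) k ⧸ q) :=
    Module.Finite.of_restrictScalars_finite k _ _
  have : Algebra.IsAlgebraic (k ⧸ (⊥ : Ideal k)) (MvPolynomial (Fin n) k ⧸ q) := inferInstance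
  have h := CycLib.height_mvPolynomial n k ⊥ q
  rw [trdeg_eq_zero (R := k ⧸ (⊥ : Ideal k)) (A := MvPolynomial (Fin n) k ⧸ q), add_zero,
    Ideal.height_bot, Cardinal.ofENat_zero, zero_add, eq_comm, Cardinal.ofENat_eq_nat] at h
  rw [IsLocalization.AtPrime.ringKrullDim_eq_height q _, h]
  rfl

theorem flat_field (f : Fin n → MvPolynomial (Fin n) k) (q : Ideal (MvPolynomial (Fin n) k))
    [q.IsMaximal] (hfq : ∀ i, f i ∈ q)
    [Ring.KrullDimLE 0 (MvPolynomial (Fin n) k ⧸ Ideal.span (Set.range f))] :
    ((algebraMap (MvPolynomial (Fin n) k) (Localization.AtPrime q)).comp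
      (aeval f : MvPolynomial (Fin n) k →ₐ[k] MvPolynomial (Fin n) k).toRingHom).Flat := by
  let φ := (aeval f : MvPolynomial (Fin n) k →ₐ[k] MvPolynomial (Fin n) k).toRingHom
  let Q0 : Ideal (MvPolynomial (Fin n) k) := q.comap φ
  have hdec : ∀ p : MvPolynomial (Fin n) k, p - C (constantCoeff p) ∈
      Ideal.span (Set.range (X : Fin n → MvPolynomial (Fin n) k)) := by
    intro p
    induction p using MvPolynomial.induction_on with
    | C c => simp
    | add p p' hp hp' =>
      rw [map_add, map_add]
      convert Ideal.add_mem _ hp hp' using 1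
      ring
    | mul_X p i hp =>
      simp only [map_mul, constantCoeff_X, mul_zero, map_zero, sub_zero]
      exact Ideal.mul_mem_left _ p (Ideal.subset_span (Set.mem_range_self i))
  have hXQ : Ideal.span (Set.range (X : Fin n → MvPolynomial (Fin n) k)) ≤ Q0 := by
    rw [Ideal.span_le]
    rintro _ ⟨i, rfl⟩
    change φ (X i) ∈ q
    simpa [φ] using hfq i
  have hspan : ∀ P : Ideal (MvPolynomial (Fin n) k), P ≠ ⊤ →
      Ideal.span (Set.range X) ≤ P → P = Ideal.span (Set.range X) := by
    intro P hP hXP
    refine le_antisymm (fun p hp => ?_) hXP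
    have hc : C (constantCoeff p) ∈ P := by
      have := P.sub_mem hp (hXP (hdec p))
      simpa using this
    have h0 : constantCoeff p = 0 := by
      by_contra h
      exact hP (Ideal.eq_top_of_isUnit_mem _ hc ((Ne.isUnit h).map C))
    simpa [h0] using hdec p
  have hQ0 : Q0 = Ideal.span (Set.range X) := hspan Q0 (Ideal.IsPrime.ne_top inferInstance) hXQ
  have hQ0m : Q0.IsMaximal := by
    obtain ⟨M, hM, hle⟩ := Ideal.exists_le_maximal Q0 (Ideal.IsPrime.ne_top inferInstance)
    rwa [hQ0, ← hspan M hM.ne_top (hXQ.trans hle)]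
  let R := Localization.AtPrime Q0
  let S := Localization.AtPrime q
  let ψ : R →+* S := Localization.localRingHom Q0 q φ rfl
  let : Algebra R S := ψ.toAlgebra
  have : IsLocalHom (algebraMap R S) := Localization.isLocalHom_localRingHom Q0 q φ rfl
  have : IsRegularLocalRing R := IsRegularRing.isRegularLocalRing_localization Q0
  have : IsRegularLocalRing S := IsRegularRing.isRegularLocalRing_localization q
  have := Depth.isCohenMacaulayLocalRing_of_isRegularLocalRing (R := S)
  let I := Ideal.span (Set.range f)
  have hmap : (maximalIdeal R).map (algebraMap R S) = I.map (algebraMap _ S) := by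
    rw [← IsLocalization.AtPrime.map_eq_maximalIdeal Q0 R, Ideal.map_map,
      (congrArg (Ideal.map ((algebraMap R S).comp (algebraMap _ R))) hQ0 :), Ideal.map_span,
      Ideal.map_span, ← Set.range_comp, ← Set.range_comp]
    congr 2
    funext i
    simp [ψ, φ, RingHom.algebraMap_toAlgebra, Localization.localRingHom_to_map, S, R]
  have hne : I.map (algebraMap _ S) ≠ ⊤ := fun h => (maximalIdeal.isMaximal S).ne_top
    (top_le_iff.1 (h ▸ (by
      rw [← IsLocalization.AtPrime.map_eq_maximalIdeal q S]
      exact Ideal.map_mono (Ideal.span_le.2 (by rintro _ ⟨i, rfl⟩; exact hfq i)))))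
  have : Nontrivial (S ⧸ I.map (algebraMap _ S)) := Ideal.Quotient.nontrivial_iff.2 hne
  have h0 : Ring.KrullDimLE 0 (S ⧸ I.map (algebraMap _ S)) := by
    rw [Ring.krullDimLE_zero_iff]
    intro J hJ
    have hm : (IsLocalRing.maximalIdeal S) ≤ J.comap (Ideal.Quotient.mk _) := by
      let J' : Ideal (MvPolynomial (Fin n) k) :=
        (J.comap (Ideal.Quotient.mk (I.map (algebraMap (MvPolynomial (Fin n) k) S)))).comap
          (algebraMap (MvPolynomial (Fin n) k) S)
      have hI : I ≤ J' := fun x hx => by
        change Ideal.Quotient.mk _ (algebraMap _ S x) ∈ J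
        rw [Ideal.Quotient.eq_zero_iff_mem.2 (Ideal.mem_map_of_mem _ hx)]
        exact J.zero_mem
      have hJ'p : J'.IsPrime := inferInstance
      have hd := (IsLocalization.isPrime_iff_isPrime_disjoint q.primeCompl S
        (J.comap (Ideal.Quotient.mk (I.map (algebraMap _ S))))).1 inferInstance
      have h2 : J' ≤ q := fun x hx => by
        by_contra hxm
        exact hd.2.le_bot ⟨hxm, hx⟩
      have : (J'.map (Ideal.Quotient.mk I)).IsPrime :=
        Ideal.map_isPrime_of_surjective Ideal.Quotient.mk_surjective (by rw [Ideal.mk_ker]; exact hI)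
      have h3 : (J'.map (Ideal.Quotient.mk I)).IsMaximal :=
        Ring.krullDimLE_zero_iff.1 inferInstance _ this
      have h4 : J'.IsMaximal := by
        have := Ideal.comap_isMaximal_of_surjective _ Ideal.Quotient.mk_surjective
          (K := J'.map (Ideal.Quotient.mk I))
        rwa [Ideal.comap_map_of_surjective _ Ideal.Quotient.mk_surjective, ← RingHom.ker_eq_comap_bot,
          Ideal.mk_ker, sup_of_le_left hI] at this
      rw [← IsLocalization.AtPrime.map_eq_maximalIdeal q S]
      exact (Ideal.map_mono (h4.eq_of_le (Ideal.IsPrime.ne_top inferInstance) h2).ge).trans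
        Ideal.map_comap_le
    have hJmax : (J.comap (Ideal.Quotient.mk (I.map (algebraMap _ S)))).IsMaximal := by
      rw [← (maximalIdeal.isMaximal S).eq_of_le (Ideal.IsPrime.ne_top inferInstance) hm]
      infer_instance
    exact Ideal.map_comap_of_surjective _ Ideal.Quotient.mk_surjective J ▸
      (Ideal.map_eq_top_or_isMaximal_of_surjective _ Ideal.Quotient.mk_surjective hJmax).resolve_left
        fun h => hJ.ne_top (by rw [← Ideal.map_comap_of_surjective _ Ideal.Quotient.mk_surjective J, h])
  have hdim : ringKrullDim S = ringKrullDim R + ringKrullDim (S ⧸ (maximalIdeal R).map (algebraMap R S)) := by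
    rw [hmap, ringKrullDimZero_iff_ringKrullDim_eq_zero.1 h0, add_zero,
      ringKrullDim_localization_maximal, ringKrullDim_localization_maximal]
  have hflat : Module.Flat R S := RegLoc.Miracle.flat_of_ringKrullDim_eq_add hdim
  have h1 : (algebraMap (MvPolynomial (Fin n) k) R).Flat :=
    RingHom.flat_algebraMap_iff.2 (IsLocalization.flat R Q0.primeCompl)
  have h2 := RingHom.Flat.comp h1 (show ψ.Flat from hflat)
  convert h2 using 1
  exact RingHom.ext fun x => (Localization.localRingHom_to_map Q0 q φ rfl x).symm

end Groth.Agent.SquarePres
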