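/-
The variables of a polynomial ring form a weakly regular sequence.
-/
import Mathlib.RingTheory.Regular.RegularSequence
import Mathlib.RingTheory.MvPolynomial.Ideal
import Mathlib.Algebra.MvPolynomial.Division

open MvPolynomial RingTheory.Sequence

universe u v

namespace Groth.Agent.SquarePres

theorem isWeaklyRegular_X {σ : Type v} {A : Type u} [CommRing A] (l : List σ) (hl : l.Nodup) :
    IsWeaklyRegular (MvPolynomial σ A) (l.map (X : σ → MvPolynomial σ A)) := by
  refine ⟨fun i hi => ?_⟩
  rw [isSMulRegular_quotient_iff_mem_of_smul_mem]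
  intro p hp
  have hil : i < l.length := by simpa using hi
  have hspan : Ideal.ofList ((l.map (X : σ → MvPolynomial σ A)).take i) =
      Ideal.span ((X : σ → MvPolynomial σ A) '' {s | s ∈ l.take i}) := by
    rw [Ideal.ofList]
    congr 1
    ext x
    simp [← List.map_take]
  simp only [smul_eq_mul, Ideal.mul_top, hspan, List.getElem_map] at hp ⊢
  rw [mem_ideal_span_X_image] at hp ⊢
  intro m hm
  obtain ⟨s, hs, hms⟩ := hp (Finsupp.single l[i] 1 + m) (by
    rw [mem_support_iff, coeff_X_mul]
    exact mem_support_iff.1 hm)
  refine ⟨s, hs, ?_⟩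
  have hne : s ≠ l[i] := by
    rintro rfl
    obtain ⟨j, hj, he⟩ := List.getElem_of_mem hs
    rw [List.getElem_take] at he
    have := (List.nodup_iff_injective_get.1 hl) (a₁ := ⟨j, by
      simp only [List.length_take] at hj; omega⟩) (a₂ := ⟨i, hil⟩) he
    simp only [List.length_take] at hj
    simp only [Fin.mk.injEq] at this
    omega
  simpa [Finsupp.single_eq_of_ne hne] using hms

end Groth.Agent.SquarePres
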