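/-
Algebras `A[x]/(f)` with as many equations as variables and finite fibres: flatness and the
Noether different.
-/
import Groth.Agent.SquarePres.Flat
import Groth.Agent.SquarePres.XRegular
import Groth.Agent.KoszulWiebe.Regular
import Groth.Agent.KoszulWiebe.BaseChange
import Groth.Agent.NoetherDiff.GCI
import Mathlib.RingTheory.QuasiFinite.Basic
import Mathlib.RingTheory.RingHom.Flat
import Mathlib.RingTheory.TensorProduct.MvPolynomial
import Mathlib.RingTheory.Flat.Stability

open MvPolynomial TensorProduct

attribute [local instance] MvPolynomial.algebraMvPolynomial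

universe u

namespace Groth.Agent.SquarePres

variable {A : Type u} [CommRing A] {n : ℕ}

theorem krullDimLE_fibre (f : Fin n → MvPolynomial (Fin n) A)
    [Algebra.QuasiFinite A (MvPolynomial (Fin n) A ⧸ Ideal.span (Set.range f))]
    (p : Ideal A) [p.IsPrime] : Ring.KrullDimLE 0 (MvPolynomial (Fin n) p.ResidueField ⧸
      Ideal.span (Set.range fun i => MvPolynomial.map (algebraMap A p.ResidueField) (f i))) := by
  let κ := p.ResidueField
  let J := Ideal.span (Set.range fun i => MvPolynomial.map (algebraMap A κ) (f i))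
  let D := MvPolynomial (Fin n) A ⧸ Ideal.span (Set.range f)
  let ψ₀ : D →+* MvPolynomial (Fin n) κ ⧸ J := Ideal.Quotient.lift _
    ((Ideal.Quotient.mk J).comp (MvPolynomial.map (algebraMap A κ))) fun x hx => by
      have := Ideal.mem_map_of_mem (MvPolynomial.map (algebraMap A κ)) hx
      rw [Ideal.map_span, ← Set.range_comp] at this
      exact Ideal.Quotient.eq_zero_iff_mem.2 this
  let ψ₁ : D →ₐ[A] MvPolynomial (Fin n) κ ⧸ J :=
    { toRingHom := ψ₀
      commutes' := fun a => by
        change Ideal.Quotient.mk J (MvPolynomial.map (algebraMap A κ) (C a)) = _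
        rw [map_C]
        rfl }
  let ψ : κ ⊗[A] D →ₐ[κ] MvPolynomial (Fin n) κ ⧸ J :=
    Algebra.TensorProduct.lift (Algebra.ofId κ _) ψ₁ fun _ _ => Commute.all _ _
  have hψ : Function.Surjective ψ := by
    intro y
    obtain ⟨y, rfl⟩ := Ideal.Quotient.mk_surjective y
    induction y using MvPolynomial.induction_on with
    | C c => exact ⟨c ⊗ₜ 1, by simp [ψ]; rfl⟩
    | add y y' h h' =>
      obtain ⟨x, hx⟩ := h
      obtain ⟨x', hx'⟩ := h'
      exact ⟨x + x', by rw [map_add, hx, hx', map_add]⟩
    | mul_X y i h =>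
      obtain ⟨x, hx⟩ := h
      refine ⟨x * ((1 : κ) ⊗ₜ Ideal.Quotient.mk _ (X i)), ?_⟩
      rw [map_mul, hx, map_mul, Algebra.TensorProduct.lift_tmul, map_one, one_mul]
      congr 1
      change Ideal.Quotient.mk J (MvPolynomial.map (algebraMap A κ) (X i)) = _
      rw [map_X]
  have : Module.Finite κ (κ ⊗[A] D) := Algebra.QuasiFinite.finite_fiber p
  have : Module.Finite κ (MvPolynomial (Fin n) κ ⧸ J) :=
    Module.Finite.of_surjective ψ.toLinearMap hψ
  have : IsArtinianRing (MvPolynomial (Fin n) κ ⧸ J) := IsArtinianRing.of_finite κ _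
  exact inferInstance

theorem flat_square (f : Fin n → MvPolynomial (Fin n) A)
    [Algebra.QuasiFinite A (MvPolynomial (Fin n) A ⧸ Ideal.span (Set.range f))] :
    Module.Flat A (MvPolynomial (Fin n) A ⧸ Ideal.span (Set.range f)) := by
  let D := MvPolynomial (Fin n) A ⧸ Ideal.span (Set.range f)
  refine Module.flat_of_isLocalized_maximal (S := D) (R := A) (M := D)
    (fun P _ => Localization.AtPrime P) (fun P _ => Algebra.linearMap D _) fun P hP => ?_
  exact flat_localization_square f (fun p _ => krullDimLE_fibre f p) P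

variable {D : Type u} [CommRing D] [Algebra A D] [Module.Flat A D]

theorem flat_map_algebraMap : (MvPolynomial.map (σ := Fin n) (algebraMap A D)).Flat := by
  have : Algebra.IsPushout A (MvPolynomial (Fin n) A) D (MvPolynomial (Fin n) D) :=
    inferInstance
  exact RingHom.flat_algebraMap_iff (R := MvPolynomial (Fin n) A) (S := MvPolynomial (Fin n) D) |>.2 (Module.Flat.isBaseChange A (MvPolynomial (Fin n) A) D
    (MvPolynomial (Fin n) D) this.out)

/-- Wiebe's lemma for the diagonal of a square algebra. -/
theorem mem_sup_det_square (f : Fin n → MvPolynomial (Fin n) A)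
    (hqf : ∀ (p : Ideal A) [p.IsPrime], Ring.KrullDimLE 0 (MvPolynomial (Fin n) p.ResidueField ⧸
      Ideal.span (Set.range fun i => MvPolynomial.map (algebraMap A p.ResidueField) (f i))))
    (g : Fin n → MvPolynomial (Fin n) D)
    (C' : Matrix (Fin n) (Fin n) (MvPolynomial (Fin n) D))
    (hC : ∀ i, MvPolynomial.map (algebraMap A D) (f i) = ∑ j, C' i j * g j) (x : MvPolynomial (Fin n) D)
    (hx : ∀ j, x * g j ∈ Ideal.span (Set.range fun i => MvPolynomial.map (algebraMap A D) (f i))) :
    x ∈ Ideal.span (Set.range fun i => MvPolynomial.map (algebraMap A D) (f i)) ⊔ Ideal.span {C'.det} := by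
  classical
  let S := MvPolynomial (Fin n) D
  let fC : Fin n → S := fun i => MvPolynomial.map (algebraMap A D) (f i)
  let I : Ideal S := Ideal.span (Set.range fC) ⊔ Ideal.span {C'.det}
  by_contra hne
  let J : Ideal S := Submodule.colon I {x}
  have hJ : J ≠ ⊤ := fun h => hne (by
    have : (1 : S) ∈ J := h ▸ trivial
    simpa [J] using Submodule.mem_colon.1 this x rfl)
  obtain ⟨M, hM, hle⟩ := Ideal.exists_le_maximal J hJ
  have hfM : ∀ i, fC i ∈ M := fun i => hle (Submodule.mem_colon.2 fun y hy => by
    rw [Set.mem_singleton_iff.1 hy, smul_eq_mul]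
    exact I.mul_mem_right _ (Submodule.mem_sup_left (Ideal.subset_span ⟨i, rfl⟩)))
  let Q := M.comap (MvPolynomial.map (σ := Fin n) (algebraMap A D))
  let SM := Localization.AtPrime M
  let σ := ULift.{u} (Fin n)
  let φ₁ : MvPolynomial σ A →+* Localization.AtPrime Q :=
    (algebraMap (MvPolynomial (Fin n) A) (Localization.AtPrime Q)).comp
      (aeval (fun i => f i.down) : MvPolynomial σ A →ₐ[A] MvPolynomial (Fin n) A).toRingHom
  let φ₂ : Localization.AtPrime Q →+* SM :=
    Localization.localRingHom Q M (MvPolynomial.map (σ := Fin n) (algebraMap A D)) rfl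
  have hflat : (φ₂.comp φ₁).Flat :=
    (flat_aeval_localization f hqf Q hfM).comp
      (RingHom.Flat.localRingHom (flat_map_algebraMap (n := n) (A := A) (D := D)) M Q rfl)
  let l : List (MvPolynomial σ A) := List.ofFn fun i : Fin n => X (ULift.up i)
  have hlreg : RingTheory.Sequence.IsWeaklyRegular (MvPolynomial σ A) l.reverse := by
    have e : l.reverse = ((List.ofFn fun i : Fin n => (ULift.up i : σ)).reverse).map X := by
      simp [l, List.map_reverse, List.map_ofFn, Function.comp_def]
    rw [e]
    exact isWeaklyRegular_X _ (List.nodup_reverse.2 (List.nodup_ofFn.2 ULift.up_injective))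
  have hac := KoszulWiebe.isZero_homology_map (φ₂.comp φ₁) hflat l
    (KoszulWiebe.acyclic_of_isWeaklyRegular_reverse l hlreg)
  have hl : l.map (φ₂.comp φ₁) = List.ofFn fun i => algebraMap S SM (fC i) := by
    simp only [l, List.map_ofFn]
    congr 1
    funext i
    simp [φ₁, φ₂, Localization.localRingHom_to_map, fC, SM, S]
  rw [hl] at hac
  have hmem := KoszulWiebe.mem_sup_det (fun i => algebraMap S SM (fC i))
    (fun j => algebraMap S SM (g j)) (C'.map (algebraMap S SM))
    (fun i => by
      simp only [fC, hC i, map_sum, map_mul, Matrix.map_apply]) hac (algebraMap S SM x) (fun j => by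
      rw [← map_mul]
      have := Ideal.mem_map_of_mem (algebraMap S SM) (hx j)
      rwa [Ideal.map_span, ← Set.range_comp] at this)
  have hI : Ideal.span (Set.range fun i => algebraMap S SM (fC i)) ⊔
      Ideal.span {(C'.map (algebraMap S SM)).det} = I.map (algebraMap S SM) := by
    rw [Ideal.map_sup, Ideal.map_span, Ideal.map_span, ← Set.range_comp, Set.image_singleton,
      RingHom.map_det]
    rfl
  rw [hI] at hmem
  obtain ⟨⟨⟨a, ha⟩, ⟨s, hs⟩⟩, hsa⟩ := (IsLocalization.mem_map_algebraMap_iff M.primeCompl SM).1 hmem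
  simp only at hsa
  rw [← map_mul] at hsa
  obtain ⟨⟨t, ht⟩, hts⟩ := (IsLocalization.eq_iff_exists M.primeCompl SM).1 hsa
  refine (M.primeCompl.mul_mem ht hs) (hle (Submodule.mem_colon.2 fun y hy => ?_))
  rw [Set.mem_singleton_iff.1 hy, smul_eq_mul, mul_assoc, mul_comm s x]
  simp only at hts
  rw [hts]
  exact I.mul_mem_left _ ha

/-- The annihilator of the diagonal of a flat square algebra is generated by `ξ`. -/
theorem noetherDifferent_presentation {B : Type u} [CommRing B] [Algebra A B] [Module.Flat A B]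
    (f : Fin n → MvPolynomial (Fin n) A)
    (hqf : ∀ (p : Ideal A) [p.IsPrime], Ring.KrullDimLE 0 (MvPolynomial (Fin n) p.ResidueField ⧸
      Ideal.span (Set.range fun i => MvPolynomial.map (algebraMap A p.ResidueField) (f i))))
    (b : Fin n → B) (hbs : Function.Surjective (aeval b : MvPolynomial (Fin n) A →ₐ[A] B))
    (hker : RingHom.ker (aeval b : MvPolynomial (Fin n) A →ₐ[A] B) = Ideal.span (Set.range f)) :
    Disc.noetherDifferent A B =
      Ideal.span {(Matrix.of fun i j => aeval b (pderiv j (f i))).det} := by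
  classical
  have hf : ∀ i, aeval b (f i) = 0 := fun i => hker.ge (Ideal.subset_span (Set.mem_range_self i))
  choose c hc using fun i => NoetherDiff.GCI.exists_decomp b (MvPolynomial.map (algebraMap A B) (f i))
  let C' : Matrix (Fin n) (Fin n) (MvPolynomial (Fin n) B) := Matrix.of c
  have hC : ∀ i, MvPolynomial.map (algebraMap A B) (f i) = ∑ j, C' i j * (X j - C (b j)) := fun i => by
    conv_lhs => rw [hc i]
    rw [eval_map, ← aeval_def, hf, map_zero, zero_add]
    rfl
  have hb : Algebra.adjoin A (Set.range b) = ⊤ := by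
    rw [Algebra.adjoin_range_eq_range_aeval, AlgHom.range_eq_top]
    exact hbs
  have hξ := NoetherDiff.GCI.ξ_mem b f hf C' hC hb
  have hJ : Algebra.TensorProduct.lmul' A (NoetherDiff.GCI.ξ (A := A) b C') =
      (Matrix.of fun i j => aeval b (pderiv j (f i))).det :=
    NoetherDiff.GCI.lmul_ξ b f C' hC
  let J : Ideal (MvPolynomial (Fin n) B) :=
    Ideal.span (Set.range fun i => MvPolynomial.map (algebraMap A B) (f i))
  let φ₀ : MvPolynomial (Fin n) A →ₐ[A] MvPolynomial (Fin n) B ⧸ J :=
    aeval fun j => Ideal.Quotient.mk J (X j)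
  have hφ₀ : ∀ p, φ₀ p = Ideal.Quotient.mk J (MvPolynomial.map (algebraMap A B) p) := by
    intro p
    induction p using MvPolynomial.induction_on with
    | C r =>
      rw [aeval_C, map_C]
      rfl
    | add p p' hp hp' => rw [map_add, map_add, map_add, hp, hp']
    | mul_X p i hp => rw [map_mul, map_mul, map_mul, hp, map_X, aeval_X]
  let φB : B →ₐ[A] MvPolynomial (Fin n) B ⧸ J :=
    AlgHom.liftOfSurjective _ hbs φ₀ fun x hx => by
      change φ₀ x = 0
      rw [hφ₀]
      have hx' : x ∈ Ideal.span (Set.range f) := hker.le hx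
      have := Ideal.mem_map_of_mem (MvPolynomial.map (algebraMap A B)) hx'
      rw [Ideal.map_span, ← Set.range_comp] at this
      exact Ideal.Quotient.eq_zero_iff_mem.2 this
  let ψ : B ⊗[A] B →ₐ[A] MvPolynomial (Fin n) B ⧸ J :=
    Algebra.TensorProduct.lift (IsScalarTower.toAlgHom A B _) φB fun _ _ => Commute.all _ _
  have hψq : ∀ p, ψ (NoetherDiff.GCI.q b p) = Ideal.Quotient.mk J p := by
    intro p
    induction p using MvPolynomial.induction_on with
    | C r =>
      rw [NoetherDiff.GCI.q_C, Algebra.TensorProduct.lift_tmul, map_one, mul_one]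
      rfl
    | add p p' h h' => rw [map_add, map_add, map_add, h, h']
    | mul_X p i h =>
      have hb' : φB (b i) = Ideal.Quotient.mk J (X i) := by
        rw [show φB (b i) = φB ((aeval b : MvPolynomial (Fin n) A →ₐ[A] B) (X i)) by rw [aeval_X],
          AlgHom.liftOfSurjective_apply, aeval_X]
      rw [map_mul, map_mul, map_mul, h, NoetherDiff.GCI.q_X, Algebra.TensorProduct.lift_tmul,
        map_one, one_mul, hb']
  have hqs : ∀ z : B ⊗[A] B, ∃ p, NoetherDiff.GCI.q b p = z := by
    intro z
    induction z using TensorProduct.induction_on with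
    | zero => exact ⟨0, map_zero _⟩
    | tmul r s =>
      obtain ⟨s, rfl⟩ := hbs s
      refine ⟨C r * MvPolynomial.map (algebraMap A B) s, ?_⟩
      rw [map_mul, NoetherDiff.GCI.q_C, NoetherDiff.GCI.q_map, Algebra.TensorProduct.tmul_mul_tmul,
        mul_one, one_mul]
    | add z w h h' =>
      obtain ⟨p, rfl⟩ := h
      obtain ⟨p', rfl⟩ := h'
      exact ⟨p + p', map_add _ p p'⟩
  apply le_antisymm
  · intro y hy
    obtain ⟨z, hz, rfl⟩ := NoetherDiff.mem_iff.1 hy
    obtain ⟨p, rfl⟩ := hqs z
    have hp : p ∈ J ⊔ Ideal.span {C'.det} := mem_sup_det_square f hqf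
      (fun j => X j - C (b j)) C' hC p fun j => by
      change _ ∈ J
      rw [← Ideal.Quotient.eq_zero_iff_mem, ← hψq, map_mul (NoetherDiff.GCI.q b),
        map_sub (NoetherDiff.GCI.q b), NoetherDiff.GCI.q_X, NoetherDiff.GCI.q_C, mul_sub,
        NoetherDiff.mem_ann_iff.1 hz (b j), sub_self, map_zero]
    obtain ⟨u, hu, w, hw, rfl⟩ := Submodule.mem_sup.1 hp
    obtain ⟨r, rfl⟩ := Ideal.mem_span_singleton.1 hw
    have hu0 : NoetherDiff.GCI.q (A := A) b u = 0 := by
      have : J ≤ RingHom.ker (NoetherDiff.GCI.q (A := A) b) := Ideal.span_le.2 (by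
        rintro _ ⟨i, rfl⟩
        change NoetherDiff.GCI.q (A := A) b (MvPolynomial.map (algebraMap A B) (f i)) = 0
        rw [NoetherDiff.GCI.q_map, hf, TensorProduct.tmul_zero])
      exact this hu
    rw [map_add (NoetherDiff.GCI.q b), hu0, zero_add, map_mul (NoetherDiff.GCI.q b), map_mul,
      show Algebra.TensorProduct.lmul' A (NoetherDiff.GCI.q b C'.det) = _ from hJ]
    exact Ideal.mul_mem_right _ _ (Ideal.mem_span_singleton_self _)
  · rw [Ideal.span_le, Set.singleton_subset_iff]
    exact NoetherDiff.mem_iff.2 ⟨_, hξ, hJ⟩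

/-- The Noether different of a square algebra with finite fibres. -/
theorem noetherDifferent_square (f : Fin n → MvPolynomial (Fin n) A)
    [Algebra.QuasiFinite A (MvPolynomial (Fin n) A ⧸ Ideal.span (Set.range f))] :
    Disc.noetherDifferent A (MvPolynomial (Fin n) A ⧸ Ideal.span (Set.range f)) =
      Ideal.span {Ideal.Quotient.mk (Ideal.span (Set.range f))
        (Matrix.det (Matrix.of fun i j => pderiv j (f i)))} := by
  let I := Ideal.span (Set.range f)
  have := flat_square f
  have he : ∀ p, aeval (fun j => Ideal.Quotient.mk I (X j)) p = Ideal.Quotient.mkₐ A I p := fun p =>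
    congrArg (· p) (algHom_ext (f := aeval fun j => Ideal.Quotient.mk I (X j))
      (g := Ideal.Quotient.mkₐ A I) fun i => aeval_X _ i)
  rw [noetherDifferent_presentation f (fun p _ => krullDimLE_fibre f p)
    (fun j => Ideal.Quotient.mk I (X j))
    (fun y => by
      obtain ⟨p, rfl⟩ := Ideal.Quotient.mk_surjective y
      exact ⟨p, he p⟩)
    (by ext p; rw [RingHom.mem_ker, he]; exact Ideal.Quotient.eq_zero_iff_mem), RingHom.map_det]
  refine congrArg (fun J => Ideal.span {Matrix.det J}) ?_
  ext i j
  exact he _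

end Groth.Agent.SquarePres
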