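/-
Independence of the presentation for the number of equations of a complete intersection point.
-/
import Groth.Prelude.Def_RegImm
import Mathlib.Algebra.MvPolynomial.PDeriv
import Mathlib.LinearAlgebra.TensorProduct.Quotient
import Mathlib.LinearAlgebra.Dimension.Constructions
import Mathlib.LinearAlgebra.FreeModule.Finite.Basic

open MvPolynomial TensorProduct

universe u v

namespace Groth.Agent.SquarePres

/-- `I` is generated by `n` elements modulo `m • I`. -/
def GenMod {P : Type u} [CommRing P] (I m : Ideal P) (n : ℕ) : Prop :=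
  ∃ v : Fin n → P, (∀ i, v i ∈ I) ∧ I ≤ Ideal.span (Set.range v) ⊔ m * I

theorem genMod_of_finrank_le {P : Type u} [CommRing P] (I m : Ideal P) [m.IsMaximal] {n : ℕ}
    [Module.Finite (P ⧸ m) ((P ⧸ m) ⊗[P] I)]
    (hdim : Module.finrank (P ⧸ m) ((P ⧸ m) ⊗[P] I) ≤ n) : GenMod I m n := by
  classical
  let := Ideal.Quotient.field m
  let bW := Module.finBasis (P ⧸ m) ((P ⧸ m) ⊗[P] I)
  have hsurj : ∀ w : (P ⧸ m) ⊗[P] I, ∃ u : I, (1 : P ⧸ m) ⊗ₜ[P] u = w := fun w => by
    obtain ⟨u, hu⟩ := Submodule.Quotient.mk_surjective _ (quotTensorEquivQuotSMul I m w)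
    exact ⟨u, by rw [← quotTensorEquivQuotSMul_symm_mk, hu, LinearEquiv.symm_apply_apply]⟩
  choose u hu using hsurj
  refine ⟨fun i => if h : i.1 < Module.finrank (P ⧸ m) ((P ⧸ m) ⊗[P] I)
    then (u (bW ⟨i, h⟩)).1 else 0, fun i => ?_, fun x hx => ?_⟩
  · dsimp only
    split_ifs
    · exact (u _).2
    · exact I.zero_mem
  let T : Submodule P I := Submodule.span P (Set.range fun l => u (bW l))
  have h0 : (1 : P ⧸ m) ⊗ₜ[P] (⟨x, hx⟩ : I) ∈
      T.map (TensorProduct.mk P (P ⧸ m) I 1) := by
    rw [← bW.sum_repr ((1 : P ⧸ m) ⊗ₜ[P] (⟨x, hx⟩ : I))]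
    refine Submodule.sum_mem _ fun l _ => ?_
    obtain ⟨c, hc⟩ := Ideal.Quotient.mk_surjective (bW.repr ((1 : P ⧸ m) ⊗ₜ[P] (⟨x, hx⟩ : I)) l)
    refine ⟨c • u (bW l), Submodule.smul_mem _ _ (Submodule.subset_span ⟨l, rfl⟩), ?_⟩
    rw [map_smul, TensorProduct.mk_apply, hu, ← hc]
    exact (IsScalarTower.algebraMap_smul (P ⧸ m) c (bW l)).symm
  obtain ⟨t, ht, hxt⟩ := h0
  have h1 : (⟨x, hx⟩ : I) - t ∈ m • (⊤ : Submodule P I) := by
    rw [← Submodule.Quotient.eq, ← quotTensorEquivQuotSMul_mk_one_tmul,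
      ← quotTensorEquivQuotSMul_mk_one_tmul]
    exact congrArg _ hxt.symm
  have h2 : x - t.1 ∈ m * I := by
    have := Submodule.mem_map_of_mem (f := I.subtype) h1
    rwa [Submodule.map_smul'', Submodule.map_top, Submodule.range_subtype, map_sub] at this
  have h3 : T.map I.subtype ≤ Ideal.span (Set.range fun i : Fin n =>
      if h : i.1 < Module.finrank (P ⧸ m) ((P ⧸ m) ⊗[P] I) then (u (bW ⟨i, h⟩)).1 else 0) := by
    rw [Submodule.map_span, Submodule.span_le]
    rintro _ ⟨_, ⟨l, rfl⟩, rfl⟩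
    exact Ideal.subset_span ⟨⟨l.1, l.2.trans_le hdim⟩, dif_pos l.2⟩
  rw [show x = t.1 + (x - t.1) from (add_sub_cancel _ _).symm]
  exact Submodule.add_mem_sup (h3 (Submodule.mem_map_of_mem ht)) h2

/-- Count: a semilinear surjection from a span of `ι` elements. -/
theorem finrank_le_card {R : Type u} {K : Type v} [CommRing R] [Field K] {σ : R →+* K}
    [RingHomSurjective σ] {J : Ideal R} {V : Type*} [AddCommGroup V] [Module K V] {ι : Type*}
    [Fintype ι] (g : ι → R) (hg : ∀ i, g i ∈ J) (hJ : J ≤ Ideal.span (Set.range g))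
    (f : J →ₛₗ[σ] V) (hf : Function.Surjective f) :
    Module.Finite K V ∧ Module.finrank K V ≤ Fintype.card ι := by
  have htop : Submodule.span R (Set.range fun i => (⟨g i, hg i⟩ : J)) = ⊤ := by
    apply Submodule.map_injective_of_injective J.subtype_injective
    rw [Submodule.map_span, Submodule.map_top, Submodule.range_subtype, ← Set.range_comp]
    exact le_antisymm (Submodule.span_le.2 (by rintro _ ⟨i, rfl⟩; exact hg i)) hJ
  have h : Submodule.span K (Set.range fun i => f ⟨g i, hg i⟩) = ⊤ := by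
    rw [← LinearMap.range_eq_top.2 hf, ← Submodule.map_top, ← htop, Submodule.map_span,
      ← Set.range_comp]
    rfl
  refine ⟨⟨h ▸ Submodule.fg_span (Set.finite_range _)⟩, ?_⟩
  have h1 := finrank_range_le_card (R := K) (fun i => f ⟨g i, hg i⟩)
  rwa [Set.finrank, h, finrank_top] at h1

section

variable {k : Type u} [Field k] {n N : ℕ}

/-- The kernel of the joint presentation. -/
theorem ker_le_span {C : Type u} [CommRing C] [Algebra k C]
    (χ : MvPolynomial (Fin N) k →ₐ[k] C) (r : Fin N → MvPolynomial (Fin N) k)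
    (hr : RingHom.ker χ.toRingHom = Ideal.span (Set.range r))
    (a : Fin n → MvPolynomial (Fin N) k) (p : MvPolynomial (Fin n ⊕ Fin N) k)
    (hp : χ (aeval (Sum.elim a X) p) = 0) :
    p ∈ Ideal.span (Set.range (Sum.elim (fun i => X (.inl i) - rename Sum.inr (a i))
      fun j => rename Sum.inr (r j) : Fin n ⊕ Fin N → MvPolynomial (Fin n ⊕ Fin N) k)) := by
  let gen : Fin n ⊕ Fin N → MvPolynomial (Fin n ⊕ Fin N) k :=
    Sum.elim (fun i => X (.inl i) - rename Sum.inr (a i)) fun j => rename Sum.inr (r j)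
  let J := Ideal.span (Set.range gen)
  have e : (Ideal.Quotient.mkₐ k J).comp ((rename Sum.inr).comp (aeval (Sum.elim a X))) =
      Ideal.Quotient.mkₐ k J := algHom_ext fun
    | .inl i => by
      simp only [AlgHom.comp_apply, aeval_X, Sum.elim_inl, Ideal.Quotient.mkₐ_eq_mk]
      exact (Ideal.Quotient.eq.2 (Ideal.subset_span ⟨Sum.inl i, rfl⟩ : gen (Sum.inl i) ∈ J)).symm
    | .inr j => by simp
  rw [← Ideal.Quotient.eq_zero_iff_mem, ← Ideal.Quotient.mkₐ_eq_mk k, ← e, AlgHom.comp_apply,
    Ideal.Quotient.mkₐ_eq_mk, Ideal.Quotient.eq_zero_iff_mem, AlgHom.comp_apply]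
  have : aeval (Sum.elim a X) p ∈ Ideal.span (Set.range r) := hr ▸ hp
  have := Ideal.mem_map_of_mem (rename (Sum.inr : Fin N → Fin n ⊕ Fin N)) this
  rw [Ideal.map_span] at this
  refine Ideal.span_le.2 ?_ this
  rintro _ ⟨_, ⟨j, rfl⟩, rfl⟩
  exact Ideal.subset_span ⟨.inr j, rfl⟩

theorem pderiv_inr_rename_inl (j : Fin N) (p : MvPolynomial (Fin n) k) :
    pderiv (.inr j) (rename (Sum.inl : Fin n → Fin n ⊕ Fin N) p) = 0 := by
  classical
  refine pderiv_eq_zero_of_notMem_vars fun h => ?_
  obtain ⟨i, -, hi⟩ := Finset.mem_image.1 (vars_rename Sum.inl p h)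
  exact Sum.inl_ne_inr hi

/-- If `C` is presented by `N` variables and `N` equations, then any presentation by `n` variables
needs at most `n` equations at each maximal ideal. -/
theorem genMod_ker {C : Type u} [CommRing C] [Algebra k C]
    (φ : MvPolynomial (Fin n) k →ₐ[k] C) (hφ : Function.Surjective φ)
    (χ : MvPolynomial (Fin N) k →ₐ[k] C) (hχ : Function.Surjective χ)
    (r : Fin N → MvPolynomial (Fin N) k)
    (hr : RingHom.ker χ.toRingHom = Ideal.span (Set.range r)) (𝔪 : Ideal C) [𝔪.IsMaximal] :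
    GenMod (RingHom.ker φ.toRingHom) (𝔪.comap φ.toRingHom) n := by
  classical
  let m := 𝔪.comap φ.toRingHom
  let I := RingHom.ker φ.toRingHom
  have hm : m.IsMaximal := Ideal.comap_isMaximal_of_surjective _ hφ
  let := Ideal.Quotient.field m
  choose a ha using fun i => hχ (φ (X i))
  choose b hb using fun j => hφ (χ (X j))
  let ψ : MvPolynomial (Fin n ⊕ Fin N) k →ₐ[k] MvPolynomial (Fin n) k := aeval (Sum.elim X b)
  have h2 : χ.comp (aeval (Sum.elim a X)) = φ.comp ψ := algHom_ext fun
    | .inl i => by simp [ψ, ha]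
    | .inr j => by simp [ψ, hb]
  have hψl : ∀ p, ψ (rename Sum.inl p) = p := fun p => by
    exact (aeval_rename _ _ _).trans (aeval_X_left_apply p)
  let σ := (Ideal.Quotient.mk m).comp ψ.toRingHom
  have : RingHomSurjective σ :=
    ⟨Ideal.Quotient.mk_surjective.comp fun p => ⟨rename Sum.inl p, hψl p⟩⟩
  let J : Ideal (MvPolynomial (Fin n ⊕ Fin N) k) := RingHom.ker (φ.comp ψ).toRingHom
  have hz : ∀ z : J, Ideal.Quotient.mk m (ψ z.1) = 0 := fun z =>
    Ideal.Quotient.eq_zero_iff_mem.2 (Ideal.ker_le_comap φ.toRingHom z.2)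
  let f : J →ₛₗ[σ]
      ((MvPolynomial (Fin n) k ⧸ m) ⊗[MvPolynomial (Fin n) k] I) ×
        (Fin N → MvPolynomial (Fin n) k ⧸ m) :=
    { toFun := fun z => ((1 : MvPolynomial (Fin n) k ⧸ m) ⊗ₜ[MvPolynomial (Fin n) k]
          (⟨ψ z.1, z.2⟩ : I), fun j => Ideal.Quotient.mk m (ψ (pderiv (.inr j) z.1)))
      map_add' := fun z w => by
        refine Prod.ext ?_ (funext fun j => ?_)
        · change _ = (1 : MvPolynomial (Fin n) k ⧸ m) ⊗ₜ[MvPolynomial (Fin n) k]
              (⟨ψ z.1, z.2⟩ : I) + (1 : MvPolynomial (Fin n) k ⧸ m) ⊗ₜ[MvPolynomial (Fin n) k]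
              (⟨ψ w.1, w.2⟩ : I)
          rw [← TensorProduct.tmul_add]
          change (1 : MvPolynomial (Fin n) k ⧸ m) ⊗ₜ[MvPolynomial (Fin n) k]
            (⟨ψ (z + w).1, (z + w).2⟩ : I) = _
          congr 1
          exact Subtype.ext (map_add ψ z.1 w.1)
        · change Ideal.Quotient.mk m (ψ (pderiv (.inr j) (z.1 + w.1))) =
            Ideal.Quotient.mk m (ψ (pderiv (.inr j) z.1)) +
              Ideal.Quotient.mk m (ψ (pderiv (.inr j) w.1))
          rw [map_add, map_add, map_add]
      map_smul' := fun c z => by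
        refine Prod.ext ?_ (funext fun j => ?_)
        · change _ = σ c • ((1 : MvPolynomial (Fin n) k ⧸ m) ⊗ₜ[MvPolynomial (Fin n) k]
            (⟨ψ z.1, z.2⟩ : I))
          rw [TensorProduct.smul_tmul', smul_eq_mul, mul_one,
            show σ c = ψ c • (1 : MvPolynomial (Fin n) k ⧸ m) from (mul_one _).symm,
            TensorProduct.smul_tmul]
          change (1 : MvPolynomial (Fin n) k ⧸ m) ⊗ₜ[MvPolynomial (Fin n) k]
            (⟨ψ (c • z).1, (c • z).2⟩ : I) = _
          congr 1
          exact Subtype.ext (map_mul ψ c z.1)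
        · change Ideal.Quotient.mk m (ψ (pderiv (.inr j) (c * z.1))) =
            σ c * Ideal.Quotient.mk m (ψ (pderiv (.inr j) z.1))
          rw [Derivation.leibniz, smul_eq_mul, smul_eq_mul, map_add, map_mul, map_mul, map_add,
            map_mul, map_mul, hz z, zero_mul, add_zero]
          rfl }
  let gen : Fin n ⊕ Fin N → MvPolynomial (Fin n ⊕ Fin N) k :=
    Sum.elim (fun i => X (.inl i) - rename Sum.inr (a i)) fun j => rename Sum.inr (r j)
  have hgen : ∀ i, gen i ∈ J := by
    intro i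
    change φ (ψ (gen i)) = 0
    rw [← AlgHom.comp_apply, ← h2, AlgHom.comp_apply]
    match i with
    | .inl i =>
      rw [show gen (.inl i) = X (.inl i) - rename Sum.inr (a i) from rfl, map_sub, aeval_rename,
        Sum.elim_comp_inr, aeval_X_left_apply, map_sub, aeval_X, Sum.elim_inl, sub_self]
    | .inr j =>
      simp only [gen, Sum.elim_inr, aeval_rename, Sum.elim_comp_inr, aeval_X_left_apply]
      exact (hr.symm ▸ Ideal.subset_span ⟨j, rfl⟩ : r j ∈ RingHom.ker χ.toRingHom)
  have hJ : J ≤ Ideal.span (Set.range gen) := fun p hp =>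
    ker_le_span χ r hr a p (by rw [← AlgHom.comp_apply, h2]; exact hp)
  have hsurj : Function.Surjective f := by
    rw [← LinearMap.range_eq_top, eq_top_iff]
    rintro ⟨w, t⟩ -
    have hw : ∀ w, (w, 0) ∈ LinearMap.range f := by
      intro w
      induction w using TensorProduct.induction_on with
      | zero => exact Submodule.zero_mem _
      | tmul c u =>
        obtain ⟨c, rfl⟩ := Ideal.Quotient.mk_surjective c
        have hu : rename Sum.inl (c * u.1) ∈ J := by
          change φ (ψ _) = 0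
          rw [hψl]
          exact I.mul_mem_left c u.2
        refine ⟨⟨_, hu⟩, Prod.ext ?_ (funext fun j => ?_)⟩
        · change (1 : MvPolynomial (Fin n) k ⧸ m) ⊗ₜ[MvPolynomial (Fin n) k]
            (⟨ψ (rename Sum.inl (c * u.1)), _⟩ : I) = _
          rw [show Ideal.Quotient.mk m c = c • (1 : MvPolynomial (Fin n) k ⧸ m) from (mul_one _).symm,
            TensorProduct.smul_tmul]
          congr 1
          exact Subtype.ext (hψl _)
        · change Ideal.Quotient.mk m (ψ (pderiv (.inr j) (rename Sum.inl (c * u.1)))) = 0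
          rw [pderiv_inr_rename_inl, map_zero, map_zero]
      | add x y hx hy => simpa using Submodule.add_mem _ hx hy
    have key : ∀ j, (0, Pi.single j (1 : MvPolynomial (Fin n) k ⧸ m)) ∈ LinearMap.range f := by
      intro j
      have hj : ψ (X (Sum.inr j) - rename Sum.inl (b j)) = 0 := by
        rw [map_sub, hψl]
        simp [ψ]
      have hzJ : X (Sum.inr j) - rename Sum.inl (b j) ∈ J := by
        change φ (ψ _) = 0
        rw [hj, map_zero]
      refine ⟨⟨_, hzJ⟩, Prod.ext ?_ (funext fun l => ?_)⟩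
      · exact (congrArg _ (Subtype.ext hj)).trans (TensorProduct.tmul_zero _ _)
      · change Ideal.Quotient.mk m
          (ψ (pderiv (.inr l) (X (Sum.inr j) - rename Sum.inl (b j)))) = _
        rw [map_sub, pderiv_inr_rename_inl, sub_zero]
        by_cases h : l = j
        · subst h; simp
        · rw [pderiv_X_of_ne (fun e => h (Sum.inr_injective e).symm), map_zero, map_zero]
          simp [h]
    have : (w, t) = (w, 0) + ∑ j, t j •
        ((0 : (MvPolynomial (Fin n) k ⧸ m) ⊗[MvPolynomial (Fin n) k] I),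
          Pi.single j (1 : MvPolynomial (Fin n) k ⧸ m)) := by
      refine Prod.ext (by simp [Prod.fst_sum]) ?_
      rw [Prod.snd_add, Prod.snd_sum, zero_add]
      exact pi_eq_sum_univ' t
    rw [this]
    exact Submodule.add_mem _ (hw w) (Submodule.sum_mem _ fun j _ => Submodule.smul_mem _ _ (key j))
  obtain ⟨hfin, hdim⟩ := finrank_le_card gen hgen hJ f hsurj
  have : Module.Finite (MvPolynomial (Fin n) k ⧸ m)
      ((MvPolynomial (Fin n) k ⧸ m) ⊗[MvPolynomial (Fin n) k] I) :=
    Module.Finite.of_surjective (LinearMap.fst _ _ (Fin N → MvPolynomial (Fin n) k ⧸ m))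
      LinearMap.fst_surjective
  rw [Module.finrank_prod, Module.finrank_fin_fun, Fintype.card_sum, Fintype.card_fin,
    Fintype.card_fin] at hdim
  exact genMod_of_finrank_le I m (by omega)

end

end Groth.Agent.SquarePres
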