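/-
A finite free syntomic algebra over a local ring has a presentation with as many equations as
variables.
-/
import Groth.Agent.SquarePres.Bound
import Mathlib.RingTheory.Nakayama
import Mathlib.RingTheory.Artinian.Ring
import Mathlib.RingTheory.FinitePresentation
import Mathlib.RingTheory.Polynomial.Basic
import Mathlib.RingTheory.QuasiFinite.Basic

open MvPolynomial

universe u

namespace Groth.Agent.SquarePres

/-- The `n`-element bound at a point of a finite complete intersection over a field. -/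
theorem genMod_of_isLCIOver {k F : Type u} [Field k] [CommRing F] [Algebra k F] [Module.Finite k F]
    (hF : Synt.IsLCIOver k F) {n : ℕ} (φ : MvPolynomial (Fin n) k →ₐ[k] F)
    (hφ : Function.Surjective φ) (𝔫 : Ideal F) [h𝔫 : 𝔫.IsMaximal] :
    GenMod (RingHom.ker φ.toRingHom) (𝔫.comap φ.toRingHom) n := by
  classical
  have : IsArtinianRing F := IsArtinianRing.of_finite k F
  obtain ⟨g, hg, hgci⟩ := hF.2 ⟨𝔫, h𝔫.isPrime⟩
  let L := Localization.Away g
  let loc : F →ₐ[k] L := IsScalarTower.toAlgHom k F L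
  have hloc : Function.Surjective loc := IsArtinianRing.localization_surjective (Submonoid.powers g) L
  have hkerloc : RingHom.ker loc.toRingHom ≤ 𝔫 := by
    intro x hx
    obtain ⟨⟨_, j, rfl⟩, hj⟩ := (IsLocalization.map_eq_zero_iff (Submonoid.powers g) L x).1 hx
    exact (h𝔫.isPrime.mem_or_mem (show g ^ j * x ∈ 𝔫 from hj ▸ 𝔫.zero_mem)).resolve_left
      fun h => hg (h𝔫.isPrime.mem_of_pow_mem _ h)
  let 𝔪 : Ideal L := 𝔫.map loc.toRingHom
  have hcomap : 𝔪.comap loc.toRingHom = 𝔫 := by
    rw [Ideal.comap_map_of_surjective' loc.toRingHom hloc, sup_eq_left]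
    exact hkerloc
  have h𝔪 : 𝔪.IsMaximal := (Ideal.map_eq_top_or_isMaximal_of_surjective _ hloc h𝔫).resolve_left
    fun h => h𝔫.ne_top (by rw [← hcomap, show 𝔪 = ⊤ from h, Ideal.comap_top])
  rcases hgci with h | ⟨N, c, hcN, χ, r, hχ, hr, hd⟩
  · exact absurd (Subsingleton.elim _ _) h𝔪.ne_top
  have : Nontrivial L := ⟨⟨0, 1, fun h => h𝔪.ne_top ((Ideal.eq_top_iff_one _).2 (h ▸ 𝔪.zero_mem))⟩⟩
  have : Module.Finite k L := Module.Finite.of_surjective loc.toLinearMap hloc
  have : IsArtinianRing L := IsArtinianRing.of_finite k L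
  have h0 : ringKrullDim L = 0 := ringKrullDimZero_iff_ringKrullDim_eq_zero.1 inferInstance
  rw [h0] at hd
  have hd' : N - c = 0 := by exact_mod_cast hd.symm
  obtain rfl : c = N := by omega
  obtain ⟨v, hv, hle⟩ := genMod_ker (loc.comp φ) (hloc.comp hφ) χ hχ r hr 𝔪
  -- a power of `g` moves the kernel of `k[x] → F_g` into that of `k[x] → F`
  obtain ⟨γ, hγ⟩ := hφ g
  let I := RingHom.ker φ.toRingHom
  let I' := RingHom.ker (loc.comp φ).toRingHom
  let J : Ideal (MvPolynomial (Fin n) k) := Submodule.colon I (I' : Set (MvPolynomial (Fin n) k))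
  obtain ⟨T, hT⟩ := (IsNoetherian.noetherian I' : I'.FG)
  have hpow : ∀ t : MvPolynomial (Fin n) k, t ∈ I' → ∃ j : ℕ, γ ^ j * t ∈ I := by
    intro t ht
    obtain ⟨⟨_, j, rfl⟩, hj⟩ := (IsLocalization.map_eq_zero_iff (Submonoid.powers g) L (φ t)).1 ht
    refine ⟨j, ?_⟩
    change φ (γ ^ j * t) = 0
    rw [map_mul, map_pow, hγ]
    exact hj
  choose! e he using hpow
  let s := γ ^ (∑ t ∈ T, e t)
  have hs : ∀ t ∈ I', s * t ∈ I := by
    intro t ht
    have : I' ≤ Submodule.colon I {s} := by
      rw [← hT, Submodule.span_le]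
      intro t ht
      refine Submodule.mem_colon.2 fun y hy => ?_
      rw [Set.mem_singleton_iff.1 hy, smul_eq_mul, mul_comm]
      obtain ⟨d, hd⟩ := Nat.exists_eq_add_of_le (Finset.single_le_sum (fun i _ => Nat.zero_le (e i)) ht)
      simp only [s]
      rw [hd, pow_add, mul_comm (γ ^ e t), mul_assoc]
      exact I.mul_mem_left _ (he t (hT ▸ Submodule.subset_span ht))
    simpa [mul_comm] using Submodule.mem_colon.1 (this ht) s rfl
  have hsm : s ∉ 𝔫.comap φ.toRingHom := fun h => hg (h𝔫.isPrime.mem_of_pow_mem (∑ t ∈ T, e t) (by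
    rw [Ideal.mem_comap] at h
    simpa [s, hγ] using h))
  have hmm : (𝔪.comap (loc.comp φ).toRingHom) = 𝔫.comap φ.toRingHom := by
    conv_rhs => rw [← hcomap]
    rw [Ideal.comap_comap]
    rfl
  have hm : (𝔫.comap φ.toRingHom).IsMaximal := Ideal.comap_isMaximal_of_surjective _ hφ
  obtain ⟨c', μ, hμ, h1⟩ := hm.exists_inv hsm
  refine ⟨fun i => s * v i, fun i => hs _ (hv i), fun x hx => ?_⟩
  have hx' : x ∈ I' := by
    change loc (φ x) = 0
    rw [show φ x = 0 from hx, map_zero]
  have hsx : s * x ∈ Ideal.span (Set.range fun i => s * v i) ⊔ 𝔫.comap φ.toRingHom * I := by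
    have hle' := hle hx'
    rw [hmm] at hle'
    obtain ⟨a, ha, b, hb, rfl⟩ := Submodule.mem_sup.1 hle'
    rw [mul_add]
    refine Submodule.add_mem_sup ?_ ?_
    · obtain ⟨co, rfl⟩ := Ideal.mem_span_range_iff_exists_fun.1 ha
      rw [Finset.mul_sum]
      refine Ideal.sum_mem _ fun i _ => ?_
      rw [mul_left_comm]
      exact Ideal.mul_mem_left _ _ (Ideal.subset_span ⟨i, rfl⟩)
    · refine Submodule.mul_induction_on hb (fun p hp q hq => ?_) fun p q hp hq => ?_
      · rw [mul_left_comm]
        exact Ideal.mul_mem_mul hp (hs q hq)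
      · rw [mul_add]
        exact add_mem hp hq
  have : x = c' * (s * x) + μ * x := by rw [← mul_assoc, ← add_mul, h1, one_mul]
  rw [this]
  exact add_mem (Ideal.mul_mem_left _ c' hsx) (Submodule.mem_sup_right (Ideal.mul_mem_mul hμ hx))

variable {A B : Type u} [CommRing A] [IsLocalRing A] [CommRing B] [Algebra A B]
  [Module.Finite A B] [Module.Free A B] [Algebra.FinitePresentation A B]
  {k F : Type u} [Field k] [Algebra A k] [CommRing F] [Algebra A F] [Algebra k F]
  [IsScalarTower A k F]

theorem genMod_of_fibre (hk : Function.Surjective (algebraMap A k)) (ρ : B →ₐ[A] F)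
    (hρ : Function.Surjective ρ)
    (hρk : RingHom.ker ρ.toRingHom ≤ (IsLocalRing.maximalIdeal A).map (algebraMap A B))
    (hF : Synt.IsLCIOver k F) {n : ℕ} (b : Fin n → B)
    (hb : Function.Surjective (aeval b : MvPolynomial (Fin n) A →ₐ[A] B))
    (MB : Ideal B) [hMB : MB.IsMaximal] :
    GenMod (RingHom.ker (aeval b : MvPolynomial (Fin n) A →ₐ[A] B).toRingHom)
      (MB.comap (aeval b : MvPolynomial (Fin n) A →ₐ[A] B).toRingHom) n := by
  classical
  let P := MvPolynomial (Fin n) A
  let q : P →ₐ[A] B := aeval b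
  let I := RingHom.ker q.toRingHom
  let M : Ideal P := MB.comap q.toRingHom
  let π : P →+* MvPolynomial (Fin n) k := MvPolynomial.map (algebraMap A k)
  have hπ : Function.Surjective π := MvPolynomial.map_surjective _ hk
  let φ : MvPolynomial (Fin n) k →ₐ[k] F := aeval fun j => ρ (b j)
  have hφπ : ∀ p, φ (π p) = ρ (q p) := fun p => by
    simp only [φ, π, q]
    rw [aeval_map_algebraMap, ← comp_aeval_apply]
  have hφ : Function.Surjective φ := fun y => by
    obtain ⟨x, rfl⟩ := hρ y
    obtain ⟨p, rfl⟩ := hb x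
    exact ⟨π p, hφπ p⟩
  have hmax : MB.comap (algebraMap A B) = IsLocalRing.maximalIdeal A :=
    IsLocalRing.eq_maximalIdeal (Ideal.isMaximal_comap_of_isIntegral_of_isMaximal MB)
  have hmB : (IsLocalRing.maximalIdeal A).map (algebraMap A B) ≤ MB :=
    Ideal.map_le_iff_le_comap.2 hmax.ge
  let 𝔫 : Ideal F := MB.map ρ.toRingHom
  have hcomap : 𝔫.comap ρ.toRingHom = MB := by
    rw [Ideal.comap_map_of_surjective' ρ.toRingHom hρ, sup_eq_left]
    exact hρk.trans hmB
  have h𝔫 : 𝔫.IsMaximal := (Ideal.map_eq_top_or_isMaximal_of_surjective _ hρ hMB).resolve_left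
    fun h => hMB.ne_top (by rw [← hcomap, show 𝔫 = ⊤ from h, Ideal.comap_top])
  have : Module.Finite k F := by
    have : Module.Finite A F := Module.Finite.of_surjective ρ.toLinearMap hρ
    exact Module.Finite.of_restrictScalars_finite A k F
  have hM : (𝔫.comap φ.toRingHom).comap π = M := by
    ext p
    rw [Ideal.mem_comap, Ideal.mem_comap]
    change φ (π p) ∈ 𝔫 ↔ q p ∈ MB
    rw [hφπ, ← hcomap]
    rfl
  obtain ⟨v, hv, hle⟩ := genMod_of_isLCIOver hF φ hφ 𝔫
  have hkerπ : RingHom.ker π = (IsLocalRing.maximalIdeal A).map (algebraMap A P) := by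
    rw [MvPolynomial.ker_map, IsLocalRing.eq_maximalIdeal (RingHom.ker_isMaximal_of_surjective _ hk)]
    rfl
  have himg : RingHom.ker φ.toRingHom = I.map π := by
    apply le_antisymm
    · intro y hy
      obtain ⟨p, rfl⟩ := hπ y
      have hqp : q p ∈ (IsLocalRing.maximalIdeal A).map (algebraMap A B) :=
        hρk (by change ρ (q p) = 0; rw [← hφπ]; exact hy)
      rw [show algebraMap A B = q.toRingHom.comp (algebraMap A P) from (q.comp_algebraMap).symm,
        ← Ideal.map_map] at hqp
      obtain ⟨t, ht, hqt⟩ := (Ideal.mem_map_iff_of_surjective _ hb).1 hqp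
      rw [← hkerπ] at ht
      have : π p = π (p - t) := by rw [map_sub, RingHom.mem_ker.1 ht, sub_zero]
      rw [this]
      exact Ideal.mem_map_of_mem π (by
        change q (p - t) = 0
        rw [map_sub]
        exact sub_eq_zero.2 hqt.symm)
    · refine Ideal.map_le_iff_le_comap.2 fun p hp => ?_
      change φ (π p) = 0
      rw [hφπ, show q p = 0 from hp, map_zero]
  choose w hwI hw using fun i => (Ideal.mem_map_iff_of_surjective π hπ).1 (himg ▸ hv i)
  refine ⟨w, hwI, fun x hx => ?_⟩
  have hmapM : M.map π = 𝔫.comap φ.toRingHom := by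
    rw [← hM, Ideal.map_comap_of_surjective π hπ]
  have hx' : π x ∈ (Ideal.span (Set.range w) ⊔ M * I).map π := by
    rw [Ideal.map_sup, Ideal.map_span, Ideal.map_mul, hmapM, ← himg, ← Set.range_comp,
      show π ∘ w = v from funext hw]
    exact hle (himg ▸ Ideal.mem_map_of_mem π hx)
  obtain ⟨y, hy, hxy⟩ := (Ideal.mem_map_iff_of_surjective π hπ).1 hx'
  have hyI : y ∈ I := (sup_le (Ideal.span_le.2 (by rintro _ ⟨i, rfl⟩; exact hwI i))
    Ideal.mul_le_right : Ideal.span (Set.range w) ⊔ M * I ≤ I) hy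
  -- flatness: a linear section of `q`
  let bas := Module.Free.chooseBasis A B
  let σ : B →ₗ[A] P := bas.constr A fun i => (hb (bas i)).choose
  have hσ : q.toLinearMap.comp σ = LinearMap.id := bas.ext fun i => by
    simp only [σ, LinearMap.comp_apply, Module.Basis.constr_basis, AlgHom.toLinearMap_apply,
      LinearMap.id_apply]
    exact (hb (bas i)).choose_spec
  let pr : P →ₗ[A] P := LinearMap.id - σ.comp q.toLinearMap
  have hprI : ∀ p, pr p ∈ I := fun p => by
    change q (p - σ (q p)) = 0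
    rw [map_sub, sub_eq_zero]
    exact (LinearMap.congr_fun hσ (q p)).symm
  have hmM : (IsLocalRing.maximalIdeal A).map (algebraMap A P) ≤ M :=
    Ideal.map_le_iff_le_comap.2 fun a ha => by
      change q (algebraMap A P a) ∈ MB
      rw [AlgHom.commutes]
      exact hmB (Ideal.mem_map_of_mem _ ha)
  have hpr : ∀ p ∈ (IsLocalRing.maximalIdeal A).map (algebraMap A P), pr p ∈ M * I := by
    intro p hp
    rw [← Submodule.restrictScalars_mem A, ← Ideal.smul_top_eq_map] at hp
    induction hp using Submodule.smul_induction_on' with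
    | smul a ha t _ =>
      rw [map_smul, Algebra.smul_def]
      exact Ideal.mul_mem_mul (hmM (Ideal.mem_map_of_mem _ ha)) (hprI t)
    | add t _ t' _ h h' => rw [map_add]; exact add_mem h h'
  have hdiff : x - y ∈ M * I := by
    have h1 : x - y ∈ (IsLocalRing.maximalIdeal A).map (algebraMap A P) := by
      rw [← hkerπ, RingHom.mem_ker, map_sub, hxy, sub_self]
    have h2 : pr (x - y) = x - y := by
      change (x - y) - σ (q (x - y)) = x - y
      rw [show q (x - y) = 0 from I.sub_mem hx hyI, map_zero, sub_zero]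
    exact h2 ▸ hpr _ h1
  rw [show x = y + (x - y) from (add_sub_cancel _ _).symm]
  exact add_mem hy (Submodule.mem_sup_right hdiff)

/-- Square presentation. -/
theorem exists_square (hk : Function.Surjective (algebraMap A k)) (ρ : B →ₐ[A] F)
    (hρ : Function.Surjective ρ)
    (hρk : RingHom.ker ρ.toRingHom ≤ (IsLocalRing.maximalIdeal A).map (algebraMap A B))
    (hF : Synt.IsLCIOver k F) :
    ∃ (n : ℕ) (f : Fin n → MvPolynomial (Fin n) A) (b : Fin n → B),
      Function.Surjective (aeval b : MvPolynomial (Fin n) A →ₐ[A] B) ∧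
      RingHom.ker (aeval b : MvPolynomial (Fin n) A →ₐ[A] B) = Ideal.span (Set.range f) := by
  classical
  obtain ⟨n, q, hb⟩ := Algebra.FiniteType.iff_quotient_mvPolynomial''.1
    (inferInstance : Algebra.FiniteType A B)
  obtain ⟨b, rfl⟩ : ∃ b : Fin n → B, aeval b = q := ⟨_, (aeval_unique q).symm⟩
  let P := MvPolynomial (Fin n) A
  let qh : P →+* B := (aeval b : MvPolynomial (Fin n) A →ₐ[A] B).toRingHom
  let I : Ideal P := RingHom.ker qh
  have hIfg : I.FG := Algebra.FinitePresentation.ker_fG_of_surjective _ hb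
  let S := (IsLocalRing.maximalIdeal A).primesOver B
  have hS : S.Finite := Algebra.QuasiFinite.finite_primesOver _
  have hmem : ∀ Q ∈ hS.toFinset, Q.IsMaximal := fun Q hQ => by
    obtain ⟨hQ1, hQ2⟩ := hS.mem_toFinset.1 hQ
    exact Ideal.IsMaximal.of_liesOver_isMaximal Q (IsLocalRing.maximalIdeal A)
  choose v hvI hv using fun Q : hS.toFinset => haveI := hmem Q.1 Q.2
    genMod_of_fibre hk ρ hρ hρk hF b hb Q.1
  have hx : ∀ Q : hS.toFinset, ∃ x : P, qh x ∉ Q.1 ∧ ∀ Q' : hS.toFinset, Q' ≠ Q → qh x ∈ Q'.1 := by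
    intro Q
    have hQm := hmem Q.1 Q.2
    have : ¬ (hS.toFinset.erase Q.1).inf id ≤ Q.1 := by
      rw [hQm.isPrime.inf_le']
      rintro ⟨Q', hQ', hle⟩
      exact Finset.ne_of_mem_erase hQ'
        ((hmem _ (Finset.mem_of_mem_erase hQ')).eq_of_le hQm.ne_top hle)
    obtain ⟨x, hx, hxQ⟩ := SetLike.not_le_iff_exists.1 this
    obtain ⟨x, rfl⟩ := hb x
    exact ⟨x, hxQ, fun Q' hne =>
      (Finset.inf_le (f := id) (Finset.mem_erase.2 ⟨fun h => hne (Subtype.ext h), Q'.2⟩)) hx⟩
  choose x hxQ hx' using hx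
  let f : Fin n → P := fun i => ∑ Q : hS.toFinset, x Q * v Q i
  have hfI : ∀ i, f i ∈ I := fun i => I.sum_mem fun Q _ => I.mul_mem_left _ (hvI Q i)
  let J : Ideal P := Submodule.colon (Ideal.span (Set.range f)) (I : Set P)
  have hJ : J ⊔ I = ⊤ := by
    by_contra hne
    obtain ⟨M, hM, hle⟩ := Ideal.exists_le_maximal _ hne
    have hIM : I ≤ M := le_sup_right.trans hle
    let MB : Ideal B := M.map qh
    have hcomap : MB.comap qh = M := by
      rw [Ideal.comap_map_of_surjective' qh hb, sup_eq_left]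
      exact hIM
    have hMB : MB.IsMaximal := (Ideal.map_eq_top_or_isMaximal_of_surjective qh hb hM).resolve_left
      fun h => hM.ne_top (by rw [← hcomap, show MB = ⊤ from h, Ideal.comap_top])
    have hMS : MB ∈ hS.toFinset := hS.mem_toFinset.2 ⟨hMB.isPrime, ⟨(IsLocalRing.eq_maximalIdeal
      (Ideal.isMaximal_comap_of_isIntegral_of_isMaximal MB)).symm⟩⟩
    let Q : hS.toFinset := ⟨MB, hMS⟩
    have hsup : I ≤ Ideal.span (Set.range f) ⊔ M • I := by
      intro y hy
      have hyv := hv Q hy
      rw [show Ideal.comap qh Q.1 = M from hcomap] at hyv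
      refine (sup_le (Ideal.span_le.2 ?_) le_sup_right :
        Ideal.span (Set.range (v Q)) ⊔ M * I ≤ Ideal.span (Set.range f) ⊔ M * I) hyv
      rintro _ ⟨i, rfl⟩
      have hxM : x Q ∉ M := fun h => hxQ Q (by rw [← hcomap] at h; exact h)
      obtain ⟨c, μ, hμ, h1⟩ := hM.exists_inv hxM
      have e1 : x Q * v Q i = f i - ∑ Q' ∈ Finset.univ.erase Q, x Q' * v Q' i := by
        rw [eq_sub_iff_add_eq]
        exact Finset.add_sum_erase Finset.univ (fun Q' => x Q' * v Q' i) (Finset.mem_univ Q)
      have e2 : x Q * v Q i ∈ Ideal.span (Set.range f) ⊔ M * I := by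
        rw [e1]
        refine sub_mem (Submodule.mem_sup_left (Ideal.subset_span ⟨i, rfl⟩))
          (Submodule.mem_sup_right (Submodule.sum_mem _ fun Q' hQ' => ?_))
        refine Ideal.mul_mem_mul ?_ (hvI Q' i)
        rw [← hcomap]
        exact hx' Q' Q (Finset.ne_of_mem_erase hQ').symm
      rw [SetLike.mem_coe, show v Q i = c * (x Q * v Q i) + μ * v Q i by
        rw [← mul_assoc, ← add_mul, h1, one_mul]]
      exact add_mem (Ideal.mul_mem_left _ c e2)
        (Submodule.mem_sup_right (Ideal.mul_mem_mul hμ (hvI Q i)))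
    obtain ⟨r, hr1, hr⟩ := Submodule.exists_sub_one_mem_and_smul_le_of_fg_of_le_sup hIfg le_rfl hsup
    have hrJ : r ∈ J := Submodule.mem_colon.2 fun y hy =>
      hr (Submodule.smul_mem_pointwise_smul y r _ hy)
    have : (1 : P) ∈ M := by
      have := M.sub_mem (hle (Submodule.mem_sup_left hrJ)) hr1
      simpa using this
    exact hM.ne_top ((Ideal.eq_top_iff_one _).2 this)
  obtain ⟨h, hh, i0, hi0, hhi⟩ := Submodule.mem_sup.1 ((Ideal.eq_top_iff_one _).1 hJ)
  -- one more variable
  let inc : P →ₐ[A] MvPolynomial (Fin (n + 1)) A := rename Fin.castSucc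
  let Y : MvPolynomial (Fin (n + 1)) A := X (Fin.last n)
  let f' : Fin (n + 1) → MvPolynomial (Fin (n + 1)) A :=
    Fin.snoc (fun i => inc (f i)) (Y * inc h - 1)
  let b' : Fin (n + 1) → B := Fin.snoc b 1
  have hb' : ∀ p, aeval b' (inc p) = aeval b p := fun p =>
    congrArg (· p) (algHom_ext (f := (aeval b').comp inc) (g := aeval b) fun i => by
      simp [inc, b'])
  refine ⟨n + 1, f', b', fun y => ?_, le_antisymm (fun p hp => ?_) (Ideal.span_le.2 ?_)⟩
  · obtain ⟨p, rfl⟩ := hb y
    exact ⟨inc p, hb' p⟩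
  · let J' := Ideal.span (Set.range f')
    let π := Ideal.Quotient.mkₐ A J'
    have hY : π Y * π (inc h) = 1 := by
      rw [← map_mul, ← sub_eq_zero, ← map_one π, ← map_sub]
      exact Ideal.Quotient.eq_zero_iff_mem.2 (Ideal.subset_span ⟨Fin.last n, by simp [f']⟩)
    have hI : ∀ t ∈ I, π (inc t) = 0 := by
      intro t ht
      have hht : h * t ∈ Ideal.span (Set.range f) := Submodule.mem_colon.1 hh t ht
      have hz : π (inc (h * t)) = 0 := by
        have := Ideal.mem_map_of_mem inc hht
        rw [Ideal.map_span, ← Set.range_comp] at this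
        refine Ideal.Quotient.eq_zero_iff_mem.2 (Ideal.span_le.2 ?_ this)
        rintro _ ⟨i, rfl⟩
        exact Ideal.subset_span ⟨i.castSucc, by simp [f']⟩
      rw [← one_mul (π (inc t)), ← hY, mul_assoc, ← map_mul π (inc h), ← map_mul inc, hz, mul_zero]
    have hinch : π (inc h) = 1 := by
      rw [show h = 1 - i0 from eq_sub_of_add_eq hhi, map_sub, map_sub, hI i0 hi0, map_one, map_one,
        sub_zero]
    have hY1 : π Y = 1 := by simpa [hinch] using hY
    let sub : MvPolynomial (Fin (n + 1)) A →ₐ[A] P := aeval (Fin.snoc X 1 : Fin (n + 1) → P)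
    have e : (π.comp inc).comp sub = π := algHom_ext fun i => by
      induction i using Fin.lastCases with
      | last =>
        simp only [AlgHom.comp_apply, sub, aeval_X, Fin.snoc_last, map_one]
        exact hY1.symm
      | cast i =>
        simp only [sub, inc, AlgHom.comp_apply, aeval_X, Fin.snoc_castSucc]
        exact congrArg π (rename_X _ _)
    have e' : (aeval b : MvPolynomial (Fin n) A →ₐ[A] B).comp sub = aeval b' := algHom_ext fun i => by
      induction i using Fin.lastCases with
      | last => simp [sub, b']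
      | cast i => simp [sub, b']
    rw [← Ideal.Quotient.eq_zero_iff_mem]
    change π p = 0
    rw [← e]
    refine hI _ ?_
    change aeval b (sub p) = 0
    rw [← AlgHom.comp_apply, e']
    exact hp
  · rintro _ ⟨i, rfl⟩
    rw [SetLike.mem_coe, RingHom.mem_ker]
    induction i using Fin.lastCases with
    | last =>
      have hh1 : aeval b h = 1 := by
        have := congrArg (aeval b) hhi
        rw [map_add, map_one, show aeval b i0 = 0 from hi0, add_zero] at this
        exact this
      simp only [f', Fin.snoc_last, map_sub, map_mul, map_one, hb', hh1, Y, aeval_X, b',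
        mul_one, sub_self]
    | cast i =>
      simp only [f', Fin.snoc_castSucc, hb']
      exact hfI i

end Groth.Agent.SquarePres
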