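/-
The different and the Kähler different of a finite free algebra with square presentations locally.
-/
import Groth.Agent.NoetherDiff.GCI
import Groth.Agent.NoetherDiff.SqPres
import Groth.Agent.SquarePres.Basic
import Groth.Agent.FittLib.Basic
import Mathlib.RingTheory.Kaehler.TensorProduct
import Mathlib.LinearAlgebra.Trace

open TensorProduct MvPolynomial

universe u

namespace Groth.Agent.SquarePres

/-- For a square presentation, different = Kähler different. -/
theorem mem_differentSet_iff_of_square {A B : Type u} [CommRing A] [CommRing B] [Algebra A B]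
    [Module.Finite A B] [Module.Free A B] {n : ℕ} (f : Fin n → MvPolynomial (Fin n) A)
    (g : Fin n → B) (hg : Function.Surjective (aeval g : MvPolynomial (Fin n) A →ₐ[A] B))
    (hker : RingHom.ker (aeval g : MvPolynomial (Fin n) A →ₐ[A] B) = Ideal.span (Set.range f))
    (y : B) : y ∈ Disc.differentSet A B ↔ y ∈ Fitt.ideal B (KaehlerDifferential A B) 0 := by
  obtain ⟨e, he⟩ := NoetherDiff.GCI.exists_tate f g hg hker
  rw [NoetherDiff.SqPres.kaehlerDifferent_eq_of_presentation A f g hg hker, Ideal.mem_span_singleton]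
  generalize (Matrix.of fun i j => aeval g (pderiv j (f i))).det = J at he ⊢
  constructor
  · intro hy
    obtain ⟨c, hc⟩ := hy (e 1).toLinearMap
    refine ⟨c, e.injective (Disc.Omega.ext (LinearMap.ext fun x => ?_))⟩
    conv_lhs => rw [← mul_one y, ← smul_eq_mul, map_smul]
    conv_rhs => rw [mul_comm, ← smul_eq_mul, map_smul, he]
    exact hc x
  · rintro ⟨c, rfl⟩ φ
    refine ⟨c * e.symm ⟨φ⟩, fun x => ?_⟩
    have h2 : (J * c) • (⟨φ⟩ : Disc.Omega A B) =
        (c * e.symm ⟨φ⟩) • Disc.Omega.trace A B := by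
      calc (J * c) • (⟨φ⟩ : Disc.Omega A B) = e ((J * c) • e.symm ⟨φ⟩) := by
            rw [map_smul, e.apply_symm_apply]
        _ = e ((c * e.symm ⟨φ⟩) • J) := congrArg e (by simp only [smul_eq_mul]; ring)
        _ = (c * e.symm ⟨φ⟩) • Disc.Omega.trace A B := by rw [map_smul, he]
    exact congrArg (fun l : Disc.Omega A B => l.toLinearMap x) h2

variable {A B : Type u} [CommRing A] [CommRing B] [Algebra A B]

/-- The criterion for membership of the different. -/
theorem mem_differentSet_of_coord {ι : Type*} [Fintype ι] (β : Module.Basis ι A B) (b : B)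
    (hk : ∀ k, ∃ c : B, ∀ j, Algebra.trace A B (c * β j) = β.coord k (b * β j)) :
    b ∈ Disc.differentSet A B := by
  intro φ
  choose c hc using hk
  refine ⟨∑ k, φ (β k) • c k, fun x => ?_⟩
  refine LinearMap.congr_fun (show φ ∘ₗ LinearMap.mulLeft A b =
    Algebra.trace A B ∘ₗ LinearMap.mulLeft A (∑ k, φ (β k) • c k) from β.ext fun j => ?_) x
  simp only [LinearMap.comp_apply, LinearMap.mulLeft_apply, Finset.sum_mul, map_sum,
    smul_mul_assoc, map_smul, hc, Module.Basis.coord_apply]
  conv_lhs => rw [← β.sum_repr (b * β j), map_sum]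
  simp [mul_comm]

/-- `Fit₀ Ω` and base change. -/
theorem fit_baseChange (A' B' : Type u) [CommRing A'] [CommRing B'] [Algebra A A'] [Algebra A B']
    [Algebra A' B'] [Algebra B B'] [IsScalarTower A B B'] [IsScalarTower A A' B']
    [Algebra.IsPushout A A' B B'] [Algebra.EssFiniteType A B] :
    Fitt.ideal B' (KaehlerDifferential A' B') 0 =
      (Fitt.ideal B (KaehlerDifferential A B) 0).map (algebraMap B B') := by
  rw [← FittLib.ideal_congr (KaehlerDifferential.tensorKaehlerEquiv A A' B B') 0,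
    FittLib.ideal_baseChange]

section

variable [Module.Finite A B] [Module.Free A B] (A' : Type u) [CommRing A'] [Algebra A A']

theorem trace_one_tmul (y : B) : Algebra.trace A' (A' ⊗[A] B) ((1 : A') ⊗ₜ[A] y) =
    algebraMap A A' (Algebra.trace A B y) := by
  rw [Algebra.trace_apply, Algebra.trace_apply, ← LinearMap.trace_baseChange]
  congr 1
  exact TensorProduct.AlgebraTensorModule.ext fun a z => by simp

theorem mem_differentSet_one_tmul (b : B) (hb : b ∈ Disc.differentSet A B) :
    (1 : A') ⊗ₜ[A] b ∈ Disc.differentSet A' (A' ⊗[A] B) := by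
  classical
  let β := Module.Free.chooseBasis A B
  refine mem_differentSet_of_coord (Algebra.TensorProduct.basis A' β) _ fun k => ?_
  obtain ⟨c, hc⟩ := hb (β.coord k)
  refine ⟨(1 : A') ⊗ₜ[A] c, fun j => ?_⟩
  rw [Algebra.TensorProduct.basis_apply, Algebra.TensorProduct.tmul_mul_tmul, one_mul,
    Algebra.TensorProduct.tmul_mul_tmul, one_mul, trace_one_tmul, ← hc]
  simp [Algebra.smul_def]

theorem exists_coord_eq_of_mem (S : Submonoid A) [IsLocalization S A'] {ι : Type*} [Fintype ι]
    (β : Module.Basis ι A B) (b : B)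
    (hb : (1 : A') ⊗ₜ[A] b ∈ Disc.differentSet A' (A' ⊗[A] B)) (k : ι) :
    ∃ s ∈ S, ∃ c : B, ∀ j, Algebra.trace A B (c * β j) = s * β.coord k (b * β j) := by
  classical
  let β' := Algebra.TensorProduct.basis A' β
  have hcoord : ∀ (y : B), β'.coord k ((1 : A') ⊗ₜ[A] y) = algebraMap A A' (β.coord k y) := by
    intro y
    simp [β', Algebra.smul_def]
  obtain ⟨c', hc'⟩ := hb (β'.coord k)
  obtain ⟨⟨c, ⟨s, hs⟩⟩, hsc⟩ := IsLocalizedModule.surj S (TensorProduct.mk A A' B 1) c'
  have hsc' : (1 : A') ⊗ₜ[A] c = algebraMap A A' s • c' :=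
    hsc.symm.trans (IsScalarTower.algebraMap_smul A' s c').symm
  have heq : ∀ j, ∃ t : S, t • Algebra.trace A B (c * β j) = t • (s * β.coord k (b * β j)) := by
    intro j
    apply IsLocalizedModule.exists_of_eq (f := Algebra.linearMap A A') (S := S)
    simp only [Algebra.linearMap_apply]
    rw [map_mul (algebraMap A A') s, ← hcoord, ← trace_one_tmul,
      show (1 : A') ⊗ₜ[A] (c * β j) = ((1 : A') ⊗ₜ[A] c) * ((1 : A') ⊗ₜ[A] β j) by simp,
      show (1 : A') ⊗ₜ[A] (b * β j) = ((1 : A') ⊗ₜ[A] b) * ((1 : A') ⊗ₜ[A] β j) by simp,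
      hsc', smul_mul_assoc, map_smul, smul_eq_mul, ← hc']
  choose t ht using heq
  refine ⟨(∏ j, (t j : A)) * s, S.mul_mem (S.prod_mem fun j _ => (t j).2) hs,
    (∏ j, (t j : A)) • c, fun j => ?_⟩
  rw [smul_mul_assoc, map_smul, smul_eq_mul, ← Finset.prod_erase_mul _ _ (Finset.mem_univ j),
    mul_assoc, mul_assoc, mul_assoc]
  congr 1
  exact ht j

/-- Square presentation after a base change to a local ring. -/
theorem exists_square_tensor [Algebra.FinitePresentation A B] [IsLocalRing A'] (k : Type u) [Field k]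
    [Algebra A' k] [Algebra A k] [IsScalarTower A A' k] (hk : Function.Surjective (algebraMap A' k))
    (hF : Synt.IsLCIOver k (k ⊗[A] B)) :
    ∃ (n : ℕ) (f : Fin n → MvPolynomial (Fin n) A') (g : Fin n → A' ⊗[A] B),
      Function.Surjective (aeval g : MvPolynomial (Fin n) A' →ₐ[A'] A' ⊗[A] B) ∧
      RingHom.ker (aeval g : MvPolynomial (Fin n) A' →ₐ[A'] A' ⊗[A] B) =
        Ideal.span (Set.range f) := by
  let f₀ : A' →ₐ[A] k := IsScalarTower.toAlgHom A A' k
  let ρ : A' ⊗[A] B →ₐ[A'] k ⊗[A] B :=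
    Algebra.TensorProduct.map (Algebra.ofId A' k) (AlgHom.id A B)
  refine exists_square hk ρ
    (fun y => TensorProduct.map_surjective (g := f₀.toLinearMap) (g' := (LinearMap.id : B →ₗ[A] B)) hk Function.surjective_id y)
    ?_ hF
  intro z hz
  have hz' : z ∈ RingHom.ker (Algebra.TensorProduct.map f₀ (AlgHom.id A B)) := hz
  rw [Algebra.TensorProduct.rTensor_ker f₀ hk] at hz'
  have hle : RingHom.ker f₀ ≤ IsLocalRing.maximalIdeal A' :=
    IsLocalRing.le_maximalIdeal (RingHom.ker_ne_top _)
  exact Ideal.map_mono hle hz'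

end

end Groth.Agent.SquarePres
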